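import Mathlib.Algebra.Polynomial.Laurent
import Mathlib.RingTheory.GradedAlgebra.HomogeneousLocalization
import Mathlib.RingTheory.MvPolynomial.Homogeneous
import Mathlib.RingTheory.AdjoinRoot
import Mathlib.RingTheory.Polynomial.UniqueFactorization
import Mathlib.Algebra.Polynomial.Splits
import Mathlib.Algebra.Polynomial.SpecificDegree
import Mathlib.Data.Set.Card
import Mathlib.Tactic.ComputeDegree
import Mathlib.Algebra.MvPolynomial.Funext
import Mathlib.GroupTheory.OrderOfElement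
import Mathlib.Tactic.LinearCombination
import Mathlib.Tactic.FieldSimp

/-!
# Finite automorphism groups of the projective line minus a quadratic point

`GrothLib.BddFin.conicAut_card_le_four`.
-/

set_option autoImplicit false

universe u

open LaurentPolynomial

namespace GrothLib.BddFin

theorem isUnit_laurent {L : Type*} [Field L] {z : L[T;T⁻¹]} (hz : IsUnit z) :
    ∃ (c : L) (m : ℤ), c ≠ 0 ∧ z = LaurentPolynomial.C c * T m := by
  obtain ⟨w, hzw⟩ := hz.exists_right_inv
  obtain ⟨n, p, hp⟩ := exists_T_pow z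
  obtain ⟨k, p', hp'⟩ := exists_T_pow w
  have h : Polynomial.toLaurent (p * p') = Polynomial.toLaurent ((Polynomial.X : Polynomial L) ^ (n + k)) := by
    rw [map_mul, hp, hp', Polynomial.toLaurent_X_pow, Nat.cast_add, T_add]
    linear_combination (T (n : ℤ) * T (k : ℤ)) * hzw
  obtain ⟨i, -, hi⟩ := (dvd_prime_pow Polynomial.prime_X (n + k)).1
    ⟨p', (Polynomial.toLaurent_injective h).symm⟩
  obtain ⟨u, hu⟩ := hi.symm
  obtain ⟨c, hc, hcu⟩ := Polynomial.isUnit_iff.1 u.isUnit
  refine ⟨c, (i : ℤ) - n, hc.ne_zero, ?_⟩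
  have e : z = Polynomial.toLaurent p * T (-(n : ℤ)) := by
    rw [hp, mul_assoc, ← T_add, add_neg_cancel, T_zero, mul_one]
  rw [e, ← hu, ← hcu, map_mul, Polynomial.toLaurent_C, Polynomial.toLaurent_X_pow, T_sub]
  ring

theorem aeval_mul_of_isHomogeneous {σ R A : Type*} [CommRing R] [CommRing A] [Algebra R A]
    (t : A) (v : σ → A) {P : MvPolynomial σ R} {N : ℕ} (hP : P.IsHomogeneous N) :
    MvPolynomial.aeval (fun i => t * v i) P = t ^ N * MvPolynomial.aeval v P := by
  classical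
  simp only [MvPolynomial.aeval_def, MvPolynomial.eval₂_eq]
  rw [Finset.mul_sum]
  refine Finset.sum_congr rfl fun d hd => ?_
  have hdeg : ∑ i ∈ d.support, d i = N := by
    have h := hP (MvPolynomial.mem_support_iff.1 hd)
    simpa [Finsupp.weight_apply, Finsupp.sum] using h
  simp only [mul_pow, Finset.prod_mul_distrib, Finset.prod_pow_eq_pow_sum, hdeg]
  ring

theorem isUnit_false_of_eval {K : Type*} [Field K] {P : MvPolynomial (Fin 2) K}
    (h : MvPolynomial.eval (0 : Fin 2 → K) P = 0) : ¬ IsUnit P := fun hu => by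
  have h' := hu.map (MvPolynomial.eval (0 : Fin 2 → K))
  rw [h] at h'
  exact not_isUnit_zero h'

attribute [local instance] MvPolynomial.gradedAlgebra

variable {K : Type u} [Field K]

/-- The coordinate ring of the complement of the zero locus of `q`. -/
abbrev Coord (q : MvPolynomial (Fin 2) K) : Type u :=
  HomogeneousLocalization.Away (MvPolynomial.homogeneousSubmodule (Fin 2) K) q

/-- Laurent coordinates on the complement of `q = a (X - αY) (X - σαY)`. -/
theorem exists_coordinates (q : MvPolynomial (Fin 2) K) (hq : q.IsHomogeneous 2) (a s P₀ : K) (ha : a ≠ 0)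
    (hqeq : q = MvPolynomial.C a * (MvPolynomial.X 0 ^ 2 - MvPolynomial.C s * (MvPolynomial.X 0 * MvPolynomial.X 1)
      + MvPolynomial.C P₀ * MvPolynomial.X 1 ^ 2))
    (L : Type u) [Field L] [Algebra K L] (α : L) (σ : L →ₐ[K] L)
    (hσ : σ α = algebraMap K L s - α) (hα : α * α = algebraMap K L s * α - algebraMap K L P₀)
    (hne : σ α ≠ α) (hspan : ∀ x : L, ∃ u v : K, x = algebraMap K L u + algebraMap K L v * α) :
    ∃ (ψ : Coord q →+* L[T;T⁻¹]) (τ : L[T;T⁻¹] →+* L[T;T⁻¹]),
      (∀ (k : K) z, ψ (k • z) = LaurentPolynomial.C (algebraMap K L k) * ψ z) ∧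
      (∀ c, τ (LaurentPolynomial.C c) = LaurentPolynomial.C (σ c)) ∧ τ (T 1) = T (-1) ∧
      τ (T (-1)) = T 1 ∧ (∀ z, τ (ψ z) = ψ z) ∧ (∀ z, ψ z = 0 → z = 0) ∧
      (∃ p q', T 1 = ψ p + LaurentPolynomial.C α * ψ q') ∧
      ∃ p q', T (-1) = ψ p + LaurentPolynomial.C α * ψ q' := by
  classical
  set α' := σ α with hα'def
  have hσ' : σ α' = α := by
    conv_lhs => rw [hσ]
    rw [map_sub, AlgHom.commutes, ← hα'def, hσ]
    ring
  have hd0 : α' - α ≠ 0 := sub_ne_zero.2 hne
  let d : L := (α' - α)⁻¹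
  have hd : d * (α' - α) = 1 := inv_mul_cancel₀ hd0
  have hsum : α + α' = algebraMap K L s := by rw [hσ]; ring
  have hprod : α * α' = algebraMap K L P₀ := by rw [hσ]; linear_combination -hα
  let x₁ : L[T;T⁻¹] := T 1 + LaurentPolynomial.C α * (LaurentPolynomial.C d * (T 1 - 1))
  let y₁ : L[T;T⁻¹] := LaurentPolynomial.C d * (T 1 - 1)
  let φ : MvPolynomial (Fin 2) K →ₐ[K] L[T;T⁻¹] := MvPolynomial.aeval ![x₁, y₁]
  have hC : ∀ k : K, algebraMap K L[T;T⁻¹] k = LaurentPolynomial.C (algebraMap K L k) := fun k => rfl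
  have hl : x₁ - LaurentPolynomial.C α * y₁ = T 1 := by simp only [x₁, y₁]; ring
  have hl' : x₁ - LaurentPolynomial.C α' * y₁ = 1 := by
    have e : LaurentPolynomial.C d * (LaurentPolynomial.C α' - LaurentPolynomial.C α) = 1 := by
      rw [← map_sub, ← map_mul, hd, map_one]
    simp only [x₁, y₁]
    linear_combination -(T 1 - 1) * e
  have hφq : φ q = LaurentPolynomial.C (algebraMap K L a) * T 1 := by
    rw [hqeq]
    simp only [φ, map_mul, map_add, map_sub, map_pow, MvPolynomial.aeval_C, MvPolynomial.aeval_X,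
      Matrix.cons_val_zero, Matrix.cons_val_one, hC, ← hsum, ← hprod]
    linear_combination (LaurentPolynomial.C (algebraMap K L a) * (x₁ - LaurentPolynomial.C α' * y₁)) * hl
      + (LaurentPolynomial.C (algebraMap K L a) * T 1) * hl'
  have hua : IsUnit (LaurentPolynomial.C (algebraMap K L a) : L[T;T⁻¹]) :=
    (IsUnit.map _ ((isUnit_iff_ne_zero).2 ha)).map _
  have hu : IsUnit (φ.toRingHom q) := by
    change IsUnit (φ q)
    rw [hφq]
    exact hua.mul (isUnit_T 1)
  let Φ : Localization.Away q →+* L[T;T⁻¹] := IsLocalization.Away.lift q hu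
  let ψ : Coord q →+* L[T;T⁻¹] := Φ.comp (algebraMap (Coord q) (Localization.Away q))
  have hΦ : ∀ P, Φ (algebraMap _ (Localization.Away q) P) = φ P := fun P =>
    IsLocalization.Away.lift_eq q hu P
  have hψmk : ∀ (n : ℕ) (P : MvPolynomial (Fin 2) K)
      (hP : P ∈ MvPolynomial.homogeneousSubmodule (Fin 2) K (n • 2)),
      ψ (HomogeneousLocalization.Away.mk _ hq n P hP) *
        (LaurentPolynomial.C (algebraMap K L a) ^ n * T (n : ℤ)) = φ P := fun n P hP => by
    have e : T (n : ℤ) = (T 1 : L[T;T⁻¹]) ^ n := by rw [T_pow, mul_one]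
    rw [e, ← mul_pow, ← hφq, ← map_pow, ← hΦ (q ^ n), ← hΦ P]
    change Φ (HomogeneousLocalization.Away.mk _ hq n P hP).val * _ = _
    rw [← map_mul, HomogeneousLocalization.Away.val_mk, Localization.mk_eq_mk', IsLocalization.mk'_spec]
  have hψsmul : ∀ (k : K) (z : Coord q),
      ψ (k • z) = LaurentPolynomial.C (algebraMap K L k) * ψ z := fun k z => by
    change Φ (k • z).val = _ * Φ z.val
    rw [HomogeneousLocalization.val_smul, Algebra.smul_def, map_mul,
      IsScalarTower.algebraMap_apply K (MvPolynomial (Fin 2) K) (Localization.Away q), hΦ,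
      MvPolynomial.algebraMap_eq, MvPolynomial.algHom_C, hC]
  let τ : L[T;T⁻¹] →+* L[T;T⁻¹] := LaurentPolynomial.eval₂ (LaurentPolynomial.C.comp σ.toRingHom)
    ⟨T (-1), T 1, by rw [← T_add]; simp [T_zero], by rw [← T_add]; simp [T_zero]⟩
  have hτC : ∀ c, τ (LaurentPolynomial.C c) = LaurentPolynomial.C (σ c) := fun c => eval₂_C _ _ c
  have hτT : τ (T 1) = T (-1) := (eval₂_T_n _ _ 1).trans (pow_one _)
  have hTinv : T (-1) * T 1 = (1 : L[T;T⁻¹]) := by rw [← T_add]; simp [T_zero]
  have hτTn : ∀ n : ℕ, τ (T (n : ℤ)) = T (-(n : ℤ)) := fun n => by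
    rw [show (T (n : ℤ) : L[T;T⁻¹]) = T 1 ^ n by rw [T_pow, mul_one], map_pow, hτT, T_pow, mul_neg_one]
  have hσd : σ d = -d := by
    simp only [d, map_inv₀, map_sub, hσ', ← hα'def]
    rw [← inv_neg, neg_sub]
  have hτy : τ y₁ = T (-1) * y₁ := by
    simp only [y₁, map_mul, map_sub, map_one, hτC, hτT, hσd, map_neg]
    linear_combination -(LaurentPolynomial.C d) * hTinv
  have hτx : τ x₁ = T (-1) * x₁ := by
    have e : τ x₁ = T (-1) + LaurentPolynomial.C α' * τ y₁ := by
      rw [show x₁ = T 1 + LaurentPolynomial.C α * y₁ from rfl, map_add, map_mul, hτC, hτT]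
    rw [e, hτy]
    linear_combination -(T (-1)) * hl'
  have hτφ : ∀ (N : ℕ) (P : MvPolynomial (Fin 2) K), P.IsHomogeneous N →
      τ (φ P) = T (-1) ^ N * φ P := fun N P hP => by
    rw [← aeval_mul_of_isHomogeneous (T (-1)) ![x₁, y₁] hP]
    have h0 : τ.comp φ.toRingHom =
        (MvPolynomial.aeval fun i => T (-1) * ![x₁, y₁] i : MvPolynomial (Fin 2) K →ₐ[K] L[T;T⁻¹]).toRingHom := by
      refine MvPolynomial.ringHom_ext (fun k => ?_) fun i => ?_
      · simp [φ, hC, hτC]
      · fin_cases i <;> simp [φ, hτx, hτy]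
    exact RingHom.congr_fun h0 P
  have hAsurj := HomogeneousLocalization.Away.mk_surjective
    (MvPolynomial.homogeneousSubmodule (Fin 2) K) hq
  have hτψ : ∀ z, τ (ψ z) = ψ z := fun z => by
    obtain ⟨n, P, hP, rfl⟩ := hAsurj z
    have h1 := congrArg τ (hψmk n P hP)
    rw [map_mul, map_mul, map_pow, hτC, AlgHom.commutes, hτTn,
      hτφ (n • 2) P hP, ← hψmk n P hP, T_pow] at h1
    refine (IsUnit.mul_left_inj ((hua.pow n).mul (isUnit_T (-(n : ℤ))))).1 (h1.trans ?_)
    have e : (T (((n • 2 : ℕ) : ℤ) * -1) * T (n : ℤ) : L[T;T⁻¹]) = T (-(n : ℤ)) := by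
      rw [← T_add]; congr 1; push_cast [smul_eq_mul]; ring
    linear_combination
      (ψ (HomogeneousLocalization.Away.mk _ hq n P hP) * LaurentPolynomial.C (algebraMap K L a) ^ n) * e
  -- injectivity
  have hψinj : ∀ z, ψ z = 0 → z = 0 := fun z hz => by
    obtain ⟨n, P, hP, rfl⟩ := hAsurj z
    have h := hψmk n P hP
    rw [hz, zero_mul] at h
    suffices hP0 : P = 0 by
      apply HomogeneousLocalization.val_injective
      rw [HomogeneousLocalization.Away.val_mk, HomogeneousLocalization.val_zero]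
      subst hP0
      exact Localization.mk_zero _
    let X' : (FractionRing (MvPolynomial (Fin 2) L)) := algebraMap _ (FractionRing (MvPolynomial (Fin 2) L)) (MvPolynomial.X 0 : MvPolynomial (Fin 2) L)
    let Y' : (FractionRing (MvPolynomial (Fin 2) L)) := algebraMap _ (FractionRing (MvPolynomial (Fin 2) L)) (MvPolynomial.X 1 : MvPolynomial (Fin 2) L)
    let ι : L →+* (FractionRing (MvPolynomial (Fin 2) L)) := (algebraMap (MvPolynomial (Fin 2) L) (FractionRing (MvPolynomial (Fin 2) L))).comp MvPolynomial.C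
    have hne' : ∀ c : L, X' - ι c * Y' ≠ 0 := fun c h0 => by
      have e : (MvPolynomial.X 0 - MvPolynomial.C c * MvPolynomial.X 1 : MvPolynomial (Fin 2) L) = 0 :=
        IsFractionRing.injective _ (FractionRing (MvPolynomial (Fin 2) L)) (by simpa [X', Y', ι] using h0)
      simpa using congrArg (MvPolynomial.eval ![(1 : L), 0]) e
    let η : L[T;T⁻¹] →+* (FractionRing (MvPolynomial (Fin 2) L)) := LaurentPolynomial.eval₂ ι
      (Units.mk0 ((X' - ι α * Y') / (X' - ι α' * Y')) (div_ne_zero (hne' α) (hne' α')))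
    have hηT : η (T 1) = (X' - ι α * Y') / (X' - ι α' * Y') := by
      rw [show (1 : ℤ) = ((1 : ℕ) : ℤ) from rfl, show η = LaurentPolynomial.eval₂ ι _ from rfl, eval₂_T_n,
        pow_one, Units.val_mk0]
    have hηC : ∀ c, η (LaurentPolynomial.C c) = ι c := fun c => eval₂_C _ _ c
    have hy : η y₁ = Y' * (X' - ι α' * Y')⁻¹ := by
      have hl0 := hne' α'
      have hdd : ι d * (ι α' - ι α) = 1 := by rw [← map_sub, ← map_mul, hd, map_one]
      simp only [y₁, map_mul, map_sub, map_one, hηC, hηT, div_eq_mul_inv]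
      have hW := mul_inv_cancel₀ hl0
      linear_combination (Y' * (X' - ι α' * Y')⁻¹) * hdd + ι d * hW
    have hx : η x₁ = X' * (X' - ι α' * Y')⁻¹ := by
      have e := congrArg η hl'
      rw [map_sub, map_mul, hηC, map_one, hy] at e
      have hl0 := hne' α'
      have e2 : η x₁ = 1 + ι α' * (Y' * (X' - ι α' * Y')⁻¹) := by linear_combination e
      rw [e2]
      linear_combination -(mul_inv_cancel₀ hl0)
    let _ : Algebra K (FractionRing (MvPolynomial (Fin 2) L)) := (ι.comp (algebraMap K L)).toAlgebra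
    have h0 : η.comp φ.toRingHom = (MvPolynomial.aeval
        fun i => (X' - ι α' * Y')⁻¹ * ![X', Y'] i : MvPolynomial (Fin 2) K →ₐ[K] (FractionRing (MvPolynomial (Fin 2) L))).toRingHom := by
      refine MvPolynomial.ringHom_ext (fun k => ?_) fun i => ?_
      · simp [φ, hC, hηC]
        rfl
      · fin_cases i <;> simp [φ, hx, hy, mul_comm]
    have h1 := RingHom.congr_fun h0 P
    simp only [RingHom.comp_apply, AlgHom.toRingHom_eq_coe, RingHom.coe_coe, ← h, map_zero] at h1
    rw [aeval_mul_of_isHomogeneous _ _ hP] at h1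
    have h2 := (mul_eq_zero.1 h1.symm).resolve_left (pow_ne_zero _ (inv_ne_zero (hne' α')))
    have h3 : (algebraMap (MvPolynomial (Fin 2) L) (FractionRing (MvPolynomial (Fin 2) L))).comp (MvPolynomial.map (algebraMap K L)) =
        (MvPolynomial.aeval ![X', Y'] : MvPolynomial (Fin 2) K →ₐ[K] (FractionRing (MvPolynomial (Fin 2) L))).toRingHom := by
      refine MvPolynomial.ringHom_ext (fun k => ?_) fun i => ?_
      · simp
        rfl
      · fin_cases i <;> simp [X', Y']
    have h4 := RingHom.congr_fun h3 P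
    simp only [RingHom.comp_apply, AlgHom.toRingHom_eq_coe, RingHom.coe_coe, h2] at h4
    exact (map_eq_zero_iff _ (MvPolynomial.map_injective _ (algebraMap K L).injective)).1
      ((map_eq_zero_iff _ (IsFractionRing.injective _ (FractionRing (MvPolynomial (Fin 2) L)))).1 h4)
  have hXX : ∀ i j : Fin 2, (MvPolynomial.X i * MvPolynomial.X j : MvPolynomial (Fin 2) K) ∈
      MvPolynomial.homogeneousSubmodule (Fin 2) K (1 • 2) :=
    fun i j => (MvPolynomial.isHomogeneous_X K i).mul (MvPolynomial.isHomogeneous_X K j)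
  have hsq : ∀ γ : L, ∀ w : L[T;T⁻¹], x₁ - LaurentPolynomial.C γ * y₁ = w →
      ∃ p q' : Coord q, w ^ 2 = (ψ p + LaurentPolynomial.C α * ψ q') * T 1 := fun γ w hw => by
    let U : Fin 2 → Fin 2 → L[T;T⁻¹] := fun i j => ψ (HomogeneousLocalization.Away.mk _ hq 1 _ (hXX i j))
    have hU : ∀ i j, U i j * (LaurentPolynomial.C (algebraMap K L a) * T 1) = ![x₁, y₁] i * ![x₁, y₁] j :=
      fun i j => by
        have h := hψmk 1 _ (hXX i j)
        rw [pow_one, Nat.cast_one] at h
        rw [h, map_mul]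
        simp [φ]
    have h00 := hU 0 0
    have h01 := hU 0 1
    have h11 := hU 1 1
    simp only [Matrix.cons_val_zero, Matrix.cons_val_one] at h00 h01 h11
    obtain ⟨u, v, huv⟩ := hspan (2 * γ)
    obtain ⟨u', v', huv'⟩ := hspan (γ * γ)
    let z : Fin 2 → Fin 2 → Coord q := fun i j => HomogeneousLocalization.Away.mk _ hq 1 _ (hXX i j)
    refine ⟨a • (z 0 0 - u • z 0 1 + u' • z 1 1), a • (v' • z 1 1 - v • z 0 1), ?_⟩
    have e : (LaurentPolynomial.C (2 * γ) : L[T;T⁻¹]) = LaurentPolynomial.C (algebraMap K L u) +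
        LaurentPolynomial.C (algebraMap K L v) * LaurentPolynomial.C α := by rw [huv, map_add, map_mul]
    have e' : (LaurentPolynomial.C (γ * γ) : L[T;T⁻¹]) = LaurentPolynomial.C (algebraMap K L u') +
        LaurentPolynomial.C (algebraMap K L v') * LaurentPolynomial.C α := by rw [huv', map_add, map_mul]
    rw [map_mul, map_ofNat] at e
    rw [map_mul] at e'
    simp only [hψsmul, map_sub, map_add]
    rw [show ψ (z 0 0) = U 0 0 from rfl, show ψ (z 0 1) = U 0 1 from rfl, show ψ (z 1 1) = U 1 1 from rfl, ← hw]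
    linear_combination -h00 + 2 * LaurentPolynomial.C γ * h01
      - LaurentPolynomial.C γ * LaurentPolynomial.C γ * h11
      - (LaurentPolynomial.C (algebraMap K L a) * T 1 * U 0 1) * e
      + (LaurentPolynomial.C (algebraMap K L a) * T 1 * U 1 1) * e'
  refine ⟨ψ, τ, hψsmul, hτC, hτT, ?_, hτψ, hψinj, ?_, ?_⟩
  · have e := congrArg τ hTinv
    rw [map_mul, map_one, hτT] at e
    exact (isUnit_T (-1)).mul_right_cancel (e.trans (by rw [mul_comm]; exact hTinv.symm))
  · obtain ⟨p, q', e⟩ := hsq α (T 1) hl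
    exact ⟨p, q', (isUnit_T 1).mul_right_cancel ((pow_two (T 1)).symm.trans e)⟩
  · obtain ⟨p, q', e⟩ := hsq α' 1 hl'
    rw [one_pow] at e
    exact ⟨p, q', (isUnit_T 1).mul_right_cancel (hTinv.trans e)⟩

theorem single_inj {L : Type*} [Field L] {c d : L} {m k : ℤ} (hc : c ≠ 0)
    (h : LaurentPolynomial.C c * T m = (LaurentPolynomial.C d * T k : L[T;T⁻¹])) : c = d ∧ m = k := by
  rw [← single_eq_C_mul_T, ← single_eq_C_mul_T] at h
  rcases (Finsupp.single_eq_single_iff _ _ _ _).1 (congrArg (fun z => z.coeff) h) with h' | h'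
  · exact ⟨h'.2, h'.1⟩
  · exact absurd h'.1 hc

theorem laurent_ringHom_ext {L M : Type*} [Field L] [CommRing M] {f g : L[T;T⁻¹] →+* M}
    (hC : ∀ c, f (LaurentPolynomial.C c) = g (LaurentPolynomial.C c)) (hT : f (T 1) = g (T 1)) : f = g := by
  have h1 : (T 1 : L[T;T⁻¹]) * T (-1) = 1 := by rw [← T_add]; simp [T_zero]
  have hu : IsUnit (f (T 1)) := (isUnit_T 1).map f
  have hT' : f (T (-1)) = g (T (-1)) := by
    refine hu.mul_left_cancel ?_
    rw [← map_mul, h1, map_one, hT, ← map_mul, h1, map_one]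
  refine RingHom.ext fun z => ?_
  induction z using LaurentPolynomial.induction_on' with
  | add p q hp hq => rw [map_add, map_add, hp, hq]
  | C_mul_T n c =>
    rw [map_mul, map_mul, hC]
    congr 1
    obtain ⟨m, rfl | rfl⟩ := n.eq_nat_or_neg
    · rw [show (T (m : ℤ) : L[T;T⁻¹]) = T 1 ^ m by rw [T_pow, mul_one], map_pow, map_pow, hT]
    · rw [show (T (-(m : ℤ)) : L[T;T⁻¹]) = T (-1) ^ m by rw [T_pow, mul_neg_one], map_pow, map_pow, hT']

theorem map_T_pow {L : Type*} [Field L] {H : L[T;T⁻¹] →+* L[T;T⁻¹]} {c : L} {m : ℤ}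
    (h : H (T 1) = LaurentPolynomial.C c * T m) (n : ℕ) :
    H (T (n : ℤ)) = LaurentPolynomial.C (c ^ n) * T ((n : ℤ) * m) := by
  rw [show (T (n : ℤ) : L[T;T⁻¹]) = T 1 ^ n by rw [T_pow, mul_one], map_pow, h, mul_pow, ← map_pow, T_pow]

theorem auto_laurent {L : Type*} [Field L] (σ : L →+* L) (τ H H' : L[T;T⁻¹] →+* L[T;T⁻¹])
    (hτC : ∀ c, τ (LaurentPolynomial.C c) = LaurentPolynomial.C (σ c)) (hτT : τ (T 1) = T (-1))
    (hτT' : τ (T (-1)) = T 1) (hC : ∀ c, H (LaurentPolynomial.C c) = LaurentPolynomial.C c)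
    (hC' : ∀ c, H' (LaurentPolynomial.C c) = LaurentPolynomial.C c)
    (hinv : H' (H (T 1)) = T 1) (hHτ : τ (H (T 1)) = H (τ (T 1))) :
    ∃ (c : L), c * σ c = 1 ∧
      (H (T 1) = LaurentPolynomial.C c * T 1 ∧ H (T (-1)) = LaurentPolynomial.C c⁻¹ * T (-1) ∨
        H (T 1) = LaurentPolynomial.C c * T (-1) ∧ H (T (-1)) = LaurentPolynomial.C c⁻¹ * T 1) := by
  obtain ⟨c, m, hc, hm⟩ := isUnit_laurent ((isUnit_T 1).map H)
  obtain ⟨c', m', hc', hm'⟩ := isUnit_laurent ((isUnit_T 1).map H')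
  have hneg : H (T (-1)) = LaurentPolynomial.C c⁻¹ * T (-m) := by
    refine ((isUnit_T 1).map H).mul_left_cancel ?_
    rw [← map_mul, ← T_add, add_neg_cancel, T_zero, map_one, hm]
    rw [show LaurentPolynomial.C c * T m * (LaurentPolynomial.C c⁻¹ * T (-m)) =
      LaurentPolynomial.C c * LaurentPolynomial.C c⁻¹ * (T m * T (-m)) by ring, ← map_mul, ← T_add,
      mul_inv_cancel₀ hc, add_neg_cancel, T_zero, map_one, one_mul]
  rw [hm, map_mul, hC'] at hinv
  have hm1 : m = 1 ∨ m = -1 := by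
    obtain ⟨n, hn | hn⟩ := m.eq_nat_or_neg <;> subst hn
    · rw [map_T_pow hm', ← mul_assoc, ← map_mul] at hinv
      have h := (single_inj (mul_ne_zero hc (pow_ne_zero _ hc'))
        (hinv.trans (by rw [map_one, one_mul] : (T 1 : L[T;T⁻¹]) = LaurentPolynomial.C 1 * T 1))).2
      exact Int.isUnit_iff.1 (IsUnit.of_mul_eq_one _ h)
    · have e := congrArg (fun z => z * H' (T (n : ℤ))) hinv
      simp only [mul_assoc, ← map_mul, ← T_add, neg_add_cancel, T_zero, map_one, mul_one] at e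
      rw [map_T_pow hm'] at e
      have h := (single_inj (d := c' ^ n) (k := 1 + (n : ℤ) * m') hc
        (by rw [T_zero, mul_one, e, T_add]; ring : LaurentPolynomial.C c * T 0 = _)).2
      refine Int.isUnit_iff.1 (IsUnit.of_mul_eq_one (-(-(m'))) ?_)
      linear_combination h
  have hcσ : c * σ c = 1 := by
    have hτm : τ (T m) = T (-m) := by
      rcases hm1 with rfl | rfl
      · exact hτT
      · simpa using hτT'
    rw [hm, map_mul, hτC, hτm, hτT, hneg] at hHτ
    rw [(single_inj (fun h0 => hc (σ.injective (by rw [h0, map_zero]))) hHτ).1, mul_inv_cancel₀ hc]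
  rcases hm1 with rfl | rfl
  · exact ⟨c, hcσ, Or.inl ⟨hm, hneg⟩⟩
  · exact ⟨c, hcσ, Or.inr ⟨hm, by simpa using hneg⟩⟩

/-- The group statement in Laurent coordinates. -/
theorem conicAut_of_coordinates (hK : ∀ n : ℕ, 0 < n → (Polynomial.X ^ n - 1 : Polynomial K).Splits)
    {A : Type u} [CommRing A] [SMul K A] (L : Type u) [Field L] [Algebra K L] (α : L) (σ : L →ₐ[K] L)
    (s P₀ : K) (hσ : σ α = algebraMap K L s - α) (hα : α * α = algebraMap K L s * α - algebraMap K L P₀)
    (hne : σ α ≠ α) (hspan : ∀ x : L, ∃ u v : K, x = algebraMap K L u + algebraMap K L v * α)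
    (ψ : A →+* L[T;T⁻¹]) (τ : L[T;T⁻¹] →+* L[T;T⁻¹])
    (hψsmul : ∀ (k : K) z, ψ (k • z) = LaurentPolynomial.C (algebraMap K L k) * ψ z)
    (hτC : ∀ c, τ (LaurentPolynomial.C c) = LaurentPolynomial.C (σ c)) (hτT : τ (T 1) = T (-1))
    (hτT' : τ (T (-1)) = T 1) (hτψ : ∀ z, τ (ψ z) = ψ z) (hψinj : ∀ z, ψ z = 0 → z = 0)
    (hT : ∃ p q', T 1 = ψ p + LaurentPolynomial.C α * ψ q')
    (hT' : ∃ p q', T (-1) = ψ p + LaurentPolynomial.C α * ψ q')
    (G : Subgroup (A ≃+* A)) [Finite G] (hG : ∀ g ∈ G, ∀ (k : K) (z : A), g (k • z) = k • g z) :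
    (∀ g ∈ G, g ^ 2 = 1) ∧ Nat.card G ≤ 4 := by
  classical
  set α' := σ α with hα'def
  let E : A × A → L[T;T⁻¹] := fun p => ψ p.1 + LaurentPolynomial.C α * ψ p.2
  have hEinj : Function.Injective E := fun p p' h => by
    have h1 := congrArg τ h
    simp only [E, map_add, map_mul, hτC, hτψ, ← hα'def] at h h1
    have hu : IsUnit (LaurentPolynomial.C α' - LaurentPolynomial.C α : L[T;T⁻¹]) := by
      rw [← map_sub]; exact (isUnit_iff_ne_zero.2 (sub_ne_zero.2 hne)).map _
    have e : (LaurentPolynomial.C α' - LaurentPolynomial.C α) * (ψ p.2 - ψ p'.2) = 0 := by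
      linear_combination h1 - h
    have h2 : ψ p.2 = ψ p'.2 := sub_eq_zero.1 (hu.mul_right_eq_zero.1 e)
    have h3 : ψ p.1 = ψ p'.1 := by rw [h2] at h; exact add_right_cancel h
    refine Prod.ext (sub_eq_zero.1 (hψinj _ ?_)) (sub_eq_zero.1 (hψinj _ ?_))
    · rw [map_sub, h3, sub_self]
    · rw [map_sub, h2, sub_self]
  have hEadd : ∀ p p' : A × A, E p + E p' = E (p + p') := fun p p' => by simp [E]; ring
  have hEmul : ∀ p p' : A × A, E p * E p' =
      E (p.1 * p'.1 - P₀ • (p.2 * p'.2), p.1 * p'.2 + p.2 * p'.1 + s • (p.2 * p'.2)) := fun p p' => by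
    have e : LaurentPolynomial.C α * LaurentPolynomial.C α =
        LaurentPolynomial.C (algebraMap K L s) * LaurentPolynomial.C α -
          (LaurentPolynomial.C (algebraMap K L P₀) : L[T;T⁻¹]) := by
      rw [← map_mul, hα, map_sub, map_mul]
    simp only [E, map_add, map_mul, map_sub, hψsmul]
    linear_combination (ψ p.2 * ψ p'.2) * e
  have hEC : ∀ u v : K, E (u • 1, v • 1) = LaurentPolynomial.C (algebraMap K L u + algebraMap K L v * α) :=
    fun u v => by
      simp only [E, hψsmul, map_one, mul_one, map_add, map_mul]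
      ring
  have hCE : ∀ c, ∃ p, E p = LaurentPolynomial.C c := fun c => by
    obtain ⟨u, v, rfl⟩ := hspan c
    exact ⟨_, hEC u v⟩
  let S : Subring L[T;T⁻¹] :=
    { carrier := Set.range E
      mul_mem' := by rintro _ _ ⟨p, rfl⟩ ⟨p', rfl⟩; exact ⟨_, (hEmul p p').symm⟩
      one_mem' := by simpa using hCE 1
      add_mem' := by rintro _ _ ⟨p, rfl⟩ ⟨p', rfl⟩; exact ⟨p + p', (hEadd p p').symm⟩
      zero_mem' := ⟨0, by simp [E]⟩
      neg_mem' := by rintro _ ⟨p, rfl⟩; exact ⟨-p, by simp [E]; ring⟩ }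
  have hEsurj : Function.Surjective E := fun z => show z ∈ S from by
    induction z using LaurentPolynomial.induction_on' with
    | add p p' hp hp' => exact add_mem hp hp'
    | C_mul_T n c =>
      refine mul_mem (hCE c) ?_
      obtain ⟨p, q', hT⟩ := hT
      obtain ⟨p₂, q₂, hT'⟩ := hT'
      have h1 : T 1 ∈ S := ⟨(p, q'), hT.symm⟩
      have h2 : T (-1) ∈ S := ⟨(p₂, q₂), hT'.symm⟩
      obtain ⟨m, rfl | rfl⟩ := n.eq_nat_or_neg
      · simpa [T_pow] using pow_mem h1 m
      · simpa [T_pow] using pow_mem h2 m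
  have hhat : ∀ g : G, ∃ H : L[T;T⁻¹] →+* L[T;T⁻¹], ∀ p, H (E p) = E (g.1 p.1, g.1 p.2) := by
    rintro ⟨g, hg⟩
    let e := Equiv.ofBijective E ⟨hEinj, hEsurj⟩
    let f : L[T;T⁻¹] → L[T;T⁻¹] := fun z => E (g (e.symm z).1, g (e.symm z).2)
    have hf : ∀ p, f (E p) = E (g p.1, g p.2) := fun p => by
      simp only [f, show e.symm (E p) = p from e.symm_apply_apply p]
    have hmul : ∀ z z', f (z * z') = f z * f z' := fun z z' => by
      obtain ⟨p, rfl⟩ := hEsurj z
      obtain ⟨p', rfl⟩ := hEsurj z'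
      rw [hEmul, hf, hf, hf, hEmul]
      simp only [map_sub, map_add, map_mul, hG g hg]
    have hadd : ∀ z z', f (z + z') = f z + f z' := fun z z' => by
      obtain ⟨p, rfl⟩ := hEsurj z
      obtain ⟨p', rfl⟩ := hEsurj z'
      rw [hEadd, hf, hf, hf, hEadd]
      simp
    have hone : f 1 = 1 := by
      obtain ⟨u, v, huv⟩ := hspan 1
      rw [← map_one LaurentPolynomial.C, huv, ← hEC, hf]
      simp only [hG g hg, map_one]
    exact ⟨RingHom.mk' ⟨⟨f, hone⟩, hmul⟩ hadd, hf⟩
  choose H hH using hhat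
  have hHC : ∀ g c, H g (LaurentPolynomial.C c) = LaurentPolynomial.C c := fun g c => by
    obtain ⟨u, v, rfl⟩ := hspan c
    rw [← hEC, hH]
    simp only [hG _ g.2, map_one]
  have hHmul : ∀ g g' z, H (g * g') z = H g (H g' z) := fun g g' z => by
    obtain ⟨p, rfl⟩ := hEsurj z
    rw [hH, hH, hH]
    rfl
  have hH1 : ∀ z, H 1 z = z := fun z => by
    obtain ⟨p, rfl⟩ := hEsurj z
    rw [hH]
    rfl
  have hHτ : ∀ g z, τ (H g z) = H g (τ z) := fun g z => by
    obtain ⟨p, rfl⟩ := hEsurj z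
    have e : ∀ r : A × A, τ (E r) = E (r.1 + s • r.2, -r.2) := fun r => by
      simp only [E, map_add, map_mul, hτC, hτψ, hψsmul, ← hα'def, map_neg]
      rw [hσ, map_sub]
      ring
    rw [hH, e, e, hH]
    simp only [map_add, map_neg, hG _ g.2]
  have hHeq : ∀ g g', H g (T 1) = H g' (T 1) → g = g' := fun g g' h => by
    have key := laurent_ringHom_ext (fun c => (hHC g c).trans (hHC g' c).symm) h
    refine Subtype.ext (RingEquiv.ext fun a => ?_)
    have := RingHom.congr_fun key (E (a, 0))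
    rw [hH, hH] at this
    exact congrArg Prod.fst (hEinj this)
  have htype : ∀ g, ∃ c : L, c ≠ 0 ∧
      ((H g (T 1) = LaurentPolynomial.C c * T 1 ∧ (c = 1 ∨ c = -1)) ∨
        H g (T 1) = LaurentPolynomial.C c * T (-1) ∧ H g (T (-1)) = LaurentPolynomial.C c⁻¹ * T 1) := by
    intro g
    obtain ⟨c, hcσ, ⟨h, -⟩ | h⟩ := auto_laurent σ.toRingHom τ (H g) (H g⁻¹) hτC hτT hτT' (hHC g)
      (hHC g⁻¹) (by rw [← hHmul, inv_mul_cancel, hH1]) (hHτ g _)
    · refine ⟨c, left_ne_zero_of_mul_eq_one hcσ, Or.inl ⟨h, ?_⟩⟩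
      have hpow : ∀ k : ℕ, H (g ^ k) (T 1) = LaurentPolynomial.C (c ^ k) * T 1 := by
        intro k
        induction k with
        | zero => simp [hH1]
        | succ k ih => rw [pow_succ, hHmul, h, map_mul, hHC, ih, pow_succ', map_mul, mul_assoc]
      obtain ⟨n, hn0, hn⟩ := (isOfFinOrder_of_finite g).exists_pow_eq_one
      have hcn : c ^ n = 1 := by
        have e := hpow n
        rw [hn, hH1] at e
        exact (single_inj one_ne_zero (d := c ^ n) (m := 1) (k := 1) (by rw [map_one, one_mul]; exact e)).1.symm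
      obtain ⟨r, rfl⟩ : ∃ r : K, algebraMap K L r = c := by
        have hev : Polynomial.aeval c (Polynomial.X ^ n - 1 : Polynomial K) = 0 := by simp [hcn]
        rw [(hK n hn0).eq_prod_roots, map_mul, map_multiset_prod, Multiset.map_map, mul_eq_zero] at hev
        rcases hev with h' | h'
        · simp [Polynomial.leadingCoeff_X_pow_sub_one hn0] at h'
        · obtain ⟨r, -, hr⟩ := Multiset.mem_map.1 (Multiset.prod_eq_zero_iff.1 h')
          exact ⟨r, (sub_eq_zero.1 (by simpa using hr)).symm⟩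
      simp only [AlgHom.toRingHom_eq_coe, RingHom.coe_coe, AlgHom.commutes] at hcσ
      exact mul_self_eq_one_iff.1 hcσ
    · exact ⟨c, left_ne_zero_of_mul_eq_one hcσ, Or.inr h⟩
  have hsquare : ∀ g : G, g * g = 1 := by
    intro g
    refine hHeq _ _ ?_
    rw [hHmul, hH1]
    obtain ⟨c, hc0, ⟨h, hc⟩ | ⟨h, h'⟩⟩ := htype g
    · rw [h, map_mul, hHC, h, ← mul_assoc, ← map_mul, mul_self_eq_one_iff.2 hc, map_one, one_mul]
    · rw [h, map_mul, hHC, h', ← mul_assoc, ← map_mul, mul_inv_cancel₀ hc0, map_one, one_mul]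
  refine ⟨fun g hg => by rw [pow_two]; exact congrArg Subtype.val (hsquare ⟨g, hg⟩), ?_⟩
  let H₁ : Set G := {g | H g (T 1) = T 1 ∨ H g (T 1) = -T 1}
  have hH₁card : H₁.ncard ≤ 2 := by
    rw [← Set.InjOn.ncard_image (f := fun g => H g (T 1)) (fun g _ g' _ h => hHeq g g' h)]
    refine (Set.ncard_le_ncard (t := {T 1, -T 1}) ?_ (Set.toFinite _)).trans
      ((Set.ncard_insert_le _ _).trans (by rw [Set.ncard_singleton]))
    rintro _ ⟨g, h | h, rfl⟩ <;> simp [h]
  have hcompl : ∀ g, g ∉ H₁ → ∃ c : L, c ≠ 0 ∧ H g (T 1) = LaurentPolynomial.C c * T (-1) ∧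
      H g (T (-1)) = LaurentPolynomial.C c⁻¹ * T 1 := fun g hg => by
    obtain ⟨c, hc0, ⟨h, hc⟩ | h⟩ := htype g
    · refine absurd ?_ hg
      rcases hc with rfl | rfl
      · left; simpa using h
      · right; simpa using h
    · exact ⟨c, hc0, h⟩
  have hH₁compl : H₁ᶜ.ncard ≤ 2 := by
    by_cases hne : ∃ g₀, g₀ ∉ H₁
    · obtain ⟨g₀, hg₀⟩ := hne
      have hsub : H₁ᶜ ⊆ (fun g => g * g₀) '' H₁ := fun g hg => by
        refine ⟨g * g₀, ?_, by simp only [mul_assoc, hsquare, mul_one]⟩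
        obtain ⟨c₀, hc₀, h₀, -⟩ := hcompl g₀ hg₀
        obtain ⟨c, hc, -, h'⟩ := hcompl g hg
        by_contra hn
        obtain ⟨c₁, -, h₁, -⟩ := hcompl _ hn
        rw [hHmul, h₀, map_mul, hHC, h', ← mul_assoc, ← map_mul] at h₁
        exact absurd (single_inj (mul_ne_zero hc₀ (inv_ne_zero hc)) h₁).2 (by decide)
      exact (Set.ncard_le_ncard hsub (Set.toFinite _)).trans ((Set.ncard_image_le (Set.toFinite _)).trans hH₁card)
    · push Not at hne
      rw [show H₁ = Set.univ from Set.eq_univ_of_forall hne, Set.compl_univ, Set.ncard_empty]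
      omega
  rw [← Set.ncard_univ, ← Set.union_compl_self H₁]
  exact (Set.ncard_union_le _ _).trans (by omega)

/-- Finite groups of `K`-automorphisms of `ℙ¹` minus a quadratic point. -/
theorem conicAut_card_le_four (hK : ∀ n : ℕ, 0 < n → (Polynomial.X ^ n - 1 : Polynomial K).Splits)
    (q : MvPolynomial (Fin 2) K) (hq : q.IsHomogeneous 2) (hirr : Irreducible q)
    (hdisc : (q.coeff (Finsupp.single 0 1 + Finsupp.single 1 1)) ^ 2 -
      4 * q.coeff (Finsupp.single 0 2) * q.coeff (Finsupp.single 1 2) ≠ 0)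
    (G : Subgroup (Coord q ≃+* Coord q)) [Finite G]
    (hG : ∀ g ∈ G, ∀ (k : K) (z : Coord q), g (k • z) = k • g z) :
    (∀ g ∈ G, g ^ 2 = 1) ∧ Nat.card G ≤ 4 := by
  classical
  set a := q.coeff (Finsupp.single 0 2)
  set b := q.coeff (Finsupp.single 0 1 + Finsupp.single 1 1)
  set c := q.coeff (Finsupp.single 1 2)
  have hq2 : q = MvPolynomial.C a * MvPolynomial.X 0 ^ 2
      + MvPolynomial.C b * (MvPolynomial.X 0 * MvPolynomial.X 1)
      + MvPolynomial.C c * MvPolynomial.X 1 ^ 2 := by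
    ext d
    rw [MvPolynomial.X_pow_eq_monomial, MvPolynomial.X_pow_eq_monomial, MvPolynomial.X, MvPolynomial.X,
      MvPolynomial.monomial_mul, MvPolynomial.C_mul_monomial, MvPolynomial.C_mul_monomial,
      MvPolynomial.C_mul_monomial, MvPolynomial.coeff_add, MvPolynomial.coeff_add,
      MvPolynomial.coeff_monomial, MvPolynomial.coeff_monomial, MvPolynomial.coeff_monomial]
    simp only [mul_one]
    by_cases hd : d 0 + d 1 = 2
    · have hcases : d = Finsupp.single 0 2 ∨ d = Finsupp.single 0 1 + Finsupp.single 1 1 ∨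
          d = Finsupp.single 1 2 := by
        rcases (show d 0 = 2 ∧ d 1 = 0 ∨ d 0 = 1 ∧ d 1 = 1 ∨ d 0 = 0 ∧ d 1 = 2 by omega) with h | h | h
        · left; ext i; fin_cases i <;> simp [h]
        · right; left; ext i; fin_cases i <;> simp [h]
        · right; right; ext i; fin_cases i <;> simp [h]
      rcases hcases with rfl | rfl | rfl <;>
        simp [a, b, c, Finsupp.ext_iff, Fin.forall_fin_two]
    · have h0 : q.coeff d = 0 := hq.coeff_eq_zero (by
        rwa [Finsupp.degree_eq_sum, Fin.sum_univ_two])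
      rw [h0, if_neg, if_neg, if_neg]
      · simp
      all_goals
        intro h
        apply hd
        subst h
        simp
  have hb1 : ∀ u v : K, MvPolynomial.eval (0 : Fin 2 → K)
      (MvPolynomial.C u * MvPolynomial.X 0 + MvPolynomial.C v * MvPolynomial.X 1) = 0 := by simp
  have ha : a ≠ 0 := fun ha0 => by
    have e : q = MvPolynomial.X 1 * (MvPolynomial.C b * MvPolynomial.X 0 + MvPolynomial.C c * MvPolynomial.X 1) := by
      rw [ha0, map_zero] at hq2
      linear_combination hq2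
    rcases hirr.isUnit_or_isUnit e with h | h
    · exact isUnit_false_of_eval (by simp) h
    · exact isUnit_false_of_eval (hb1 b c) h
  let f : Polynomial K := Polynomial.X ^ 2 + Polynomial.C (b / a) * Polynomial.X + Polynomial.C (c / a)
  have hfdeg : f.natDegree = 2 := by simp only [f]; compute_degree!
  have hfm : f.Monic := by simp only [f]; monicity!
  have hf : Irreducible f := by
    refine (Polynomial.Monic.irreducible_iff_roots_eq_zero_of_degree_le_three hfm (by omega) (by omega)).2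
      (Multiset.eq_zero_of_forall_notMem fun r hr => ?_)
    have hr' := Polynomial.isRoot_of_mem_roots hr
    simp only [f, Polynomial.IsRoot, Polynomial.eval_add, Polynomial.eval_pow, Polynomial.eval_X,
      Polynomial.eval_mul, Polynomial.eval_C] at hr'
    have hc : c = -(a * r ^ 2 + b * r) := by field_simp at hr'; linear_combination hr'
    have e : q = (MvPolynomial.X 0 - MvPolynomial.C r * MvPolynomial.X 1) *
        (MvPolynomial.C a * MvPolynomial.X 0 + MvPolynomial.C (b + a * r) * MvPolynomial.X 1) := by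
      rw [hq2, hc]
      simp only [map_neg, map_add, map_mul, map_pow]
      ring
    rcases hirr.isUnit_or_isUnit e with h | h
    · exact isUnit_false_of_eval (by simp) h
    · exact isUnit_false_of_eval (hb1 _ _) h
  have : Fact (Irreducible f) := ⟨hf⟩
  have hα : AdjoinRoot.root f ^ 2 + algebraMap K (AdjoinRoot f) (b / a) * AdjoinRoot.root f
      + algebraMap K (AdjoinRoot f) (c / a) = 0 := by
    have h2 := AdjoinRoot.aeval_eq (f := f) f
    rw [AdjoinRoot.mk_self] at h2
    simp only [f, map_add, map_mul, map_pow, Polynomial.aeval_X, Polynomial.aeval_C] at h2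
    exact h2
  let σ : AdjoinRoot f →ₐ[K] AdjoinRoot f := AdjoinRoot.liftAlgHom f (Algebra.ofId K (AdjoinRoot f))
    (-algebraMap K (AdjoinRoot f) (b / a) - AdjoinRoot.root f) (by
      simp only [f, Polynomial.eval₂_add, Polynomial.eval₂_mul, Polynomial.eval₂_pow, Polynomial.eval₂_X,
        Polynomial.eval₂_C]
      change (-algebraMap K (AdjoinRoot f) (b / a) - AdjoinRoot.root f) ^ 2 +
        algebraMap K (AdjoinRoot f) (b / a) * (-algebraMap K (AdjoinRoot f) (b / a) - AdjoinRoot.root f) +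
          algebraMap K (AdjoinRoot f) (c / a) = 0
      linear_combination hα)
  have hσ : σ (AdjoinRoot.root f) = algebraMap K (AdjoinRoot f) (-(b / a)) - AdjoinRoot.root f := by
    simp [σ, AdjoinRoot.liftAlgHom_root]
  have hα' : AdjoinRoot.root f * AdjoinRoot.root f = algebraMap K (AdjoinRoot f) (-(b / a)) *
      AdjoinRoot.root f - algebraMap K (AdjoinRoot f) (c / a) := by
    rw [map_neg]; linear_combination hα
  suffices h : q = MvPolynomial.C a * (MvPolynomial.X 0 ^ 2 - MvPolynomial.C (-(b / a)) *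
      (MvPolynomial.X 0 * MvPolynomial.X 1) + MvPolynomial.C (c / a) * MvPolynomial.X 1 ^ 2) ∧
      σ (AdjoinRoot.root f) ≠ AdjoinRoot.root f ∧ ∀ x : AdjoinRoot f, ∃ u v : K,
        x = algebraMap K (AdjoinRoot f) u + algebraMap K (AdjoinRoot f) v * AdjoinRoot.root f by
    obtain ⟨ψ, τ, h1, h2, h3, h4, h5, h6, h7, h8⟩ := exists_coordinates q hq a (-(b / a)) (c / a) ha h.1
      (AdjoinRoot f) (AdjoinRoot.root f) σ hσ hα' h.2.1 h.2.2
    exact conicAut_of_coordinates hK (AdjoinRoot f) (AdjoinRoot.root f) σ _ _ hσ hα' h.2.1 h.2.2 ψ τ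
      h1 h2 h3 h4 h5 h6 h7 h8 G hG
  refine ⟨?_, ?_, ?_⟩
  · have e1 : MvPolynomial.C a * MvPolynomial.C (-(b / a)) = (-MvPolynomial.C b : MvPolynomial (Fin 2) K) := by
      rw [← map_mul, mul_neg, mul_div_cancel₀ _ ha, map_neg]
    have e2 : MvPolynomial.C a * MvPolynomial.C (c / a) = (MvPolynomial.C c : MvPolynomial (Fin 2) K) := by
      rw [← map_mul, mul_div_cancel₀ _ ha]
    rw [hq2]
    linear_combination (MvPolynomial.X 0 * MvPolynomial.X 1) * e1 - MvPolynomial.X 1 ^ 2 * e2
  · rw [hσ, map_neg]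
    intro h
    apply hdisc
    have hq0 : algebraMap K (AdjoinRoot f) (b / a) + 2 * AdjoinRoot.root f = 0 := by
      linear_combination -h
    apply (algebraMap K (AdjoinRoot f)).injective
    rw [show b ^ 2 - 4 * a * c = a ^ 2 * ((b / a) ^ 2 - 4 * (c / a)) by field_simp]
    simp only [map_mul, map_sub, map_pow, map_ofNat, map_zero]
    linear_combination (algebraMap K (AdjoinRoot f) a ^ 2 *
      (algebraMap K (AdjoinRoot f) (b / a) + 2 * AdjoinRoot.root f)) * hq0
        - 4 * algebraMap K (AdjoinRoot f) a ^ 2 * hα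
  · intro x
    let pb := AdjoinRoot.powerBasis hf.ne_zero
    obtain ⟨g, hg, rfl⟩ := pb.exists_eq_aeval x
    have hdim : pb.dim = 2 := by rw [AdjoinRoot.powerBasis_dim, hfdeg]
    rw [hdim] at hg
    refine ⟨g.coeff 0, g.coeff 1, ?_⟩
    conv_lhs => rw [Polynomial.eq_X_add_C_of_natDegree_le_one (show g.natDegree ≤ 1 by omega)]
    simp [pb]
    ring

end GrothLib.BddFin
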